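import Cfsg.Agent.Lib.AmalgamG2Three.Frame.Main
import Cfsg.Agent.Lib.AmalgamG2Three.Span.Main
import Cfsg.Agent.Lib.AmalgamG2Three.Span.Cent
import Cfsg.Agent.Lib.AmalgamG2Three.Span.CentUV
import Cfsg.Agent.Lib.AmalgamG2Three.Pres

/-!
A finite group with the frame of two `3^5:GL₂(3)` members is `G₂(3)`.
-/

set_option autoImplicit false

namespace CfsgLib.AmalgamG2Three

variable {G : Type*} [Group G] [Finite G]

/-- Generators with the local facts make the whole group `G₂(3)`. -/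
theorem Gens.Local.nonempty_equiv_g2 {g : Gens G} (hg : g.Local) (F : Type*) [Field F] [Fintype F]
    (hF : Fintype.card F = 3) : Nonempty (G ≃* ↥(Cfsg.Lie.G2 F)) := by
  have hd : ∀ g' : Gens G, g'.Local → g'.CentDiag := fun g' h' =>
    h'.centDiag fun _ _ he hf _ hh => h'.cent_uv he hf hh
  have hd₁ := hd g hg
  have hd₂ := hd g.flip hg.flip
  have hn : g.n₁ ≠ 1 := fun h => hg.t₁_ne (by rw [Gens.t₁, h, one_mul])
  obtain ⟨e⟩ := g.equiv_g2 (hg.rel hd₁ hd₂) hn F hF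
  have ht : orderOf g.t₁ = 2 := by
    have : Fact (Nat.Prime 2) := ⟨Nat.prime_two⟩
    exact orderOf_eq_prime (by rw [pow_two, hg.toBase.t₁_sq]) hg.t₁_ne
  have htop := eq_top_of_centralizer hF e ht ((hg.involCent hd₁ hd₂).centralizer_le hg)
  exact ⟨(Subgroup.topEquiv.symm.trans (MulEquiv.subgroupCongr htop.symm)).trans e⟩

/-- The frame of two members makes the whole group `G₂(3)`. -/
theorem Frame.Hyp.nonempty_equiv_g2 {A₁ A₂ Q₁ Q₂ Z₁ Z₂ D₁ D₂ : Subgroup G}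
    (h : Frame.Hyp A₁ A₂ Q₁ Q₂ Z₁ Z₂ D₁ D₂) (F : Type*) [Field F] [Fintype F]
    (hF : Fintype.card F = 3) : Nonempty (G ≃* ↥(Cfsg.Lie.G2 F)) := by
  obtain ⟨g, hg, -⟩ := h.exists_local
  exact hg.nonempty_equiv_g2 F hF

end CfsgLib.AmalgamG2Three
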